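import Groth.Agent.CohCmpLib.UnitFibre
import Groth.Agent.CohCmpLib.CanonApps
import Groth.Agent.CohCmpLib.LineBundle
import Groth.Agent.MiscFlat6.TensorGG
import Groth.Agent.GrowthLib.FieldBound

/-!
# Global generation from fibres and the direct image
-/

set_option autoImplicit false
set_option linter.style.haveILetI false
set_option backward.isDefEq.respectTransparency false
set_option backward.isDefEq.respectTransparency.types false

noncomputable section

universe u

open CategoryTheory CategoryTheory.Limits AlgebraicGeometry TopologicalSpace Opposite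

namespace FibreGGLib

variable {X Y : Scheme.{u}}

/-- The counit to a globally generated module is an epimorphism. -/
theorem epi_counit_of_gg (f : X ⟶ Y) {L : X.Modules} (hL : Curv2.IsGloballyGenerated L) :
    Epi ((Scheme.Modules.pullbackPushforwardAdjunction f).counit.app L) := by
  refine Preadditive.epi_of_cancel_zero _ fun {N : X.Modules} (q : L ⟶ N) hq => ?_
  refine MiscFlat6.cancel_of_isGloballyGenerated hL q fun u => ?_
  have h1 := CohCmpLib.counit_puSec f L (U := ⊤) u
  refine (congrArg (q.app ⊤) h1.symm).trans ?_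
  exact congr(Scheme.Modules.Hom.app $hq ⊤ _)

/-- A morphism to a module of finite type is an epimorphism if it is one on pullbacks at closed points. -/
theorem epi_of_closed_points [CompactSpace X] {A B : X.Modules} [Coh.IsQCoh A] [Coh.IsQCoh B]
    (hB : CohB1.IsFT B) (φ : A ⟶ B)
    (h : ∀ x : X, IsClosed ({x} : Set X) →
      ∃ (Z : Scheme.{u}) (g : Z ⟶ X) (z : Z), g z = x ∧ Epi ((Scheme.Modules.pullback g).map φ)) :
    Epi φ := by
  rw [Preadditive.epi_iff_isZero_cokernel]
  have : Coh.IsQCoh (cokernel φ) := QCohLib.isQCoh_cokernel φ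
  have hC : CohB1.IsFT (cokernel φ) := QCohLib.isFT_of_epi (cokernel.π φ) hB
  refine DevissLib.isZero_of_support_empty (Set.not_nonempty_iff_eq_empty.1 fun hne => ?_)
  obtain ⟨x, hx, hxc⟩ := IsClosed.exists_closed_singleton (QCohLib.isClosed_support _ hC) hne
  obtain ⟨Z, g, z, rfl, hepi⟩ := h x hxc
  have hz : IsZero ((Scheme.Modules.pullback g).obj (cokernel φ)) := by
    have : (Scheme.Modules.pullback g).IsLeftAdjoint :=
      ⟨_, ⟨Scheme.Modules.pullbackPushforwardAdjunction g⟩⟩
    exact (isZero_cokernel_of_epi ((Scheme.Modules.pullback g).map φ)).of_iso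
      (PreservesCokernel.iso (Scheme.Modules.pullback g) φ)
  have hmem : z ∈ CohB1.support ((Scheme.Modules.pullback g).obj (cokernel φ)) := by
    rw [Groth.Agent.S4357.result g _ hC]
    exact hx
  exact (DevissLib.notMem_support_iff _ z).2 ((DevissLib.St z).map_isZero hz) hmem

/-- **Global generation from fibres and the direct image.** -/
theorem gg_of_fibres [IsLocallyNoetherian X] [CompactSpace X] (f : X ⟶ Y) [IsProper f] [Flat f] [IsLocallyNoetherian Y]
    {L : X.Modules} (hL : PicF.IsInvertible L)
    (h1 : ∀ y : Y, IsClosed ({y} : Set Y) →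
      Subsingleton (Coh.HH (f.fiber y) ((Scheme.Modules.pullback (f.fiberι y)).obj L) 1))
    (hfib : ∀ y : Y, IsClosed ({y} : Set Y) →
      Curv2.IsGloballyGenerated ((Scheme.Modules.pullback (f.fiberι y)).obj L))
    (hE : Curv2.IsGloballyGenerated ((Scheme.Modules.pushforward f).obj L)) :
    Curv2.IsGloballyGenerated L := by
  have hc := CurvLib.isCoh_of_isInvertible hL
  haveI := hc.1
  have hfp : CohB1.IsFP L := QCohLib.isFP_of_isCoh L hc
  have hfl : FlatMod.IsFlatOver f L := (CohCmpLib.locFree_hyps f (AmpleDevLib.isFinLocFree_of_isInvertible hL)).2.2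
  haveI : LocallyOfFinitePresentation f := inferInstance
  let φ := (Scheme.Modules.pullbackPushforwardAdjunction f).counit.app L
  haveI : Coh.IsQCoh ((Scheme.Modules.pushforward f ⋙ Scheme.Modules.pullback f).obj L) :=
    haveI : Coh.IsQCoh ((Scheme.Modules.pushforward f).obj L) := QCohLib.isQCoh_pushforward f L
    KFlatLib.isQCoh_pullback f _
  haveI : Coh.IsQCoh ((𝟭 X.Modules).obj L) := hc.1
  haveI : Epi φ := by
    refine epi_of_closed_points hc.2 _ fun x hx => ?_
    have hy : IsClosed ({f x} : Set Y) := by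
      have := f.isClosedMap _ hx
      rwa [Set.image_singleton] at this
    obtain ⟨z, hz⟩ : x ∈ Set.range (f.fiberι (f x)) := by rw [f.range_fiberι]; rfl
    refine ⟨_, f.fiberι (f x), z, hz, ?_⟩
    haveI := CohCmpLib.epi_bc0_of_vanishing_one f hfp hfl (f x) (h1 _ hy)
    haveI := epi_counit_of_gg (f.fiberToSpecResidueField (f x)) (hfib _ hy)
    have e := CohCmpLib.bc0_counit (f.fiber_fac (f x)) L
    haveI : Epi ((CohCmpLib.sqIso (f.fiber_fac (f x))).hom.app ((Scheme.Modules.pushforward f).obj L) ≫
        (Scheme.Modules.pullback (f.fiberι (f x))).map φ) := by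
      rw [← e]
      haveI : (Scheme.Modules.pullback (f.fiberToSpecResidueField (f x))).IsLeftAdjoint :=
        ⟨_, ⟨Scheme.Modules.pullbackPushforwardAdjunction _⟩⟩
      exact epi_comp _ _
    exact epi_of_epi ((CohCmpLib.sqIso (f.fiber_fac (f x))).hom.app _) _
  obtain ⟨ι, p, hp⟩ := GrowthLib.gg_pb f hE
  haveI := hp
  exact ⟨ι, p ≫ φ, epi_comp _ _⟩

end FibreGGLib

end
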